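import Mathlib
import Cfsg.Prelude.Def_OddOrderLocal

/-!
# The standing configuration of a minimal failure of BG 13.3 (= S1428) (helper15)

`Ctx M H E p q r P R T` bundles the data of a hypothetical counterexample of S1428 after the
Sylow-wise reduction: `p ∈ τ₁(M)`, `P ≤ E` of order `p`, `R ≤ C_E(P)` of prime order `r ≠ p`,
`T = [T, R] ≠ 1` an `R`-invariant `q`-subgroup of `C_{M_σ}(P)`, and `H` a maximal subgroup over
`N_G(P)` (not conjugate to `M`).  Every case lemma concludes `False` from a `Ctx`.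
-/

set_option autoImplicit false

namespace Cfsg.Agent.Helper15.BGW

open Cfsg Subgroup

/-- the standing configuration (all fields are propositions; redundancy is deliberate). -/
structure Ctx {G : Type*} [Group G] (M H E : Subgroup G) (p q r : ℕ) (P R T : Subgroup G) :
    Prop where
  hM : IsCoatom M
  hH : IsCoatom H
  hE : IsComplIn E (sigmaCore M) M
  hpM : p ∈ tau1 M
  hqM : q ∈ sigma M
  hrM : r ∉ sigma M
  hrp : r ≠ p
  hqp : q ≠ p
  hqr : q ≠ r
  hrk : ∀ A : Subgroup G, A ≤ M → IsElementaryAbelian p A → Nat.card A ≠ p ^ 2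
  hPE : P ≤ E
  hPM : P ≤ M
  hPH : P ≤ H
  hP : Nat.card P = p
  hNP : normalizer (P : Set G) ≤ H
  hRE : R ≤ E
  hRM : R ≤ M
  hRH : R ≤ H
  hR : Nat.card R = r
  hRP : R ≤ centralizer (P : Set G)
  hT : IsPGroup q T
  hT1 : T ≠ ⊥
  hTσ : T ≤ sigmaCore M
  hTM : T ≤ M
  hTH : T ≤ H
  hTH' : T ≤ ⁅H, H⁆
  hTP : T ≤ centralizer (P : Set G)
  hPT : P ≤ centralizer (T : Set G)
  hRT : R ≤ normalizer (T : Set G)
  hTR : ⁅T, R⁆ = T
  hnc : ∀ g : G, H ≠ M.map (MulAut.conj g).toMonoidHom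
  hHM : H ≠ M

end Cfsg.Agent.Helper15.BGW
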