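import Mathlib
import Cfsg.Agent.Lib.Helper15.BGW.Ctx

/-!
# The weaker configuration `Ctx0` (helper15)

`Ctx0` is `Ctx` without `p ∈ τ₁(M)` (only `p ∉ σ(M)` and "no `E_{p^2}` in `M`" are kept) and
without `R ≤ C(P)`.  The cases `r ∈ σ(H)`, `p ∉ σ(H)`, `r ∈ τ₂(H)`, `q ∈ τ₂(H)`, `r ∈ τ₃(H)` of
BG 13.3 only need `Ctx0` (this is used again for BG 14.2).
-/

set_option autoImplicit false

namespace Cfsg.Agent.Helper15.BGW

open Cfsg Subgroup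

/-- the weak configuration. -/
structure Ctx0 {G : Type*} [Group G] (M H E : Subgroup G) (p q r : ℕ) (P R T : Subgroup G) :
    Prop where
  hM : IsCoatom M
  hH : IsCoatom H
  hE : IsComplIn E (sigmaCore M) M
  hpσ : p ∉ sigma M
  hqM : q ∈ sigma M
  hrM : r ∉ sigma M
  hrp : r ≠ p
  hqp : q ≠ p
  hqr : q ≠ r
  hrk : ∀ A : Subgroup G, A ≤ M → IsElementaryAbelian p A → Nat.card A ≠ p ^ 2
  hPE : P ≤ E
  hPM : P ≤ M
  hPH : P ≤ H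
  hP : Nat.card P = p
  hNP : normalizer (P : Set G) ≤ H
  hRE : R ≤ E
  hRM : R ≤ M
  hRH : R ≤ H
  hR : Nat.card R = r
  hT : IsPGroup q T
  hT1 : T ≠ ⊥
  hTσ : T ≤ sigmaCore M
  hTM : T ≤ M
  hTH : T ≤ H
  hTH' : T ≤ ⁅H, H⁆
  hTP : T ≤ centralizer (P : Set G)
  hPT : P ≤ centralizer (T : Set G)
  hRT : R ≤ normalizer (T : Set G)
  hTR : ⁅T, R⁆ = T
  hnc : ∀ g : G, H ≠ M.map (MulAut.conj g).toMonoidHom
  hHM : H ≠ M

theorem Ctx.toCtx0 {G : Type*} [Group G] {M H E : Subgroup G} {p q r : ℕ} {P R T : Subgroup G}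
    (C : Ctx M H E p q r P R T) : Ctx0 M H E p q r P R T :=
  { hM := C.hM, hH := C.hH, hE := C.hE, hpσ := C.hpM.2.1, hqM := C.hqM, hrM := C.hrM,
    hrp := C.hrp, hqp := C.hqp, hqr := C.hqr, hrk := C.hrk, hPE := C.hPE, hPM := C.hPM,
    hPH := C.hPH, hP := C.hP, hNP := C.hNP, hRE := C.hRE, hRM := C.hRM, hRH := C.hRH,
    hR := C.hR, hT := C.hT, hT1 := C.hT1, hTσ := C.hTσ, hTM := C.hTM, hTH := C.hTH,
    hTH' := C.hTH', hTP := C.hTP, hPT := C.hPT, hRT := C.hRT, hTR := C.hTR, hnc := C.hnc,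
    hHM := C.hHM }

end Cfsg.Agent.Helper15.BGW
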