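import Mathlib
import Cfsg.Agent.Lib.Helper15.BGV.Main27
import Cfsg.Agent.Lib.Helper15.BGW.Ctx0
import Cfsg.Agent.Lib.Helper22.BG11W2
import Cfsg.Agent.Lib.Helper54.PxQ
import Cfsg.Agent.S1418

/-!
# BG 13.3 (= S1428): the cases `r ∈ σ(H)` and `p ∉ σ(H)` (helper15)
-/

set_option autoImplicit false
set_option linter.unusedSectionVars false

namespace Cfsg.Agent.Helper15.BGW

open Cfsg Subgroup Cfsg.Agent.Helper52 Cfsg.Agent.Helper15.BGU Cfsg.Agent.Helper55.BGB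
open Cfsg.Agent.Helper15.BGV

variable {G : Type*} [Group G] [Finite G]

/-- case `r ∈ σ(H)`. -/
theorem case0_r_sigma (hG : IsMinSimpleOddOrder G) {M H E P R T : Subgroup G} {p q r : ℕ}
    [Fact p.Prime] [Fact q.Prime] [Fact r.Prime] (C : Ctx0 M H E p q r P R T)
    (hrH : r ∈ sigma H) : False := by
  have hRr : IsPGroup r R := isPGroup_of_card_prime C.hR
  have h := case_sigma hG C.hM C.hH C.hHM (p := r) (q := q) (fun h => C.hqr h.symm) hrH C.hqM
    hRr C.hRH C.hT C.hTM C.hTH C.hRT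
  apply C.hT1
  rw [← C.hTR, Subgroup.commutator_eq_bot_iff_le_centralizer]
  exact Subgroup.le_centralizer_iff.mp h

/-- case `p ∉ σ(H)` (so `p ∈ τ₂(H)`). -/
theorem case0_p_not_sigma (hG : IsMinSimpleOddOrder G) {M H E P R T : Subgroup G} {p q r : ℕ}
    [hp : Fact p.Prime] [hq : Fact q.Prime] [hr : Fact r.Prime] (C : Ctx0 M H E p q r P R T)
    (hrH : r ∉ sigma H) (hpH : p ∉ sigma H) : False := by
  have hM := C.hM
  have hH := C.hH
  obtain ⟨⟨h2, h1⟩, hni, -⟩ := Cfsg.Agent.S1409.result hG H hH p hpH P C.hP C.hNP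
  have hτ2 : p ∈ tau2 H := ⟨hp.out, hpH, h2, h1⟩
  by_cases hqH : q ∈ sigma H
  · exact tau2_sigma_false hG hM hH C.hnc hτ2 C.hqM hqH
  have hHall := hallOf hG hH
  have hKn : H ≤ normalizer (sigmaCore H : Set G) := le_normalizer_sigmaCore H
  have hpK : ¬ p ∣ Nat.card (sigmaCore H) := not_dvd_card_sigmaCore hp.out hpH
  have hqK : ¬ q ∣ Nat.card (sigmaCore H) := not_dvd_card_sigmaCore hq.out hqH
  have hrK : ¬ r ∣ Nat.card (sigmaCore H) := not_dvd_card_sigmaCore hr.out hrH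
  -- a complement of `H_σ` containing `T ⊔ R`
  have hFH : T ⊔ R ≤ H := sup_le C.hTH C.hRH
  have hFd : Nat.card (T ⊔ R : Subgroup G) ∣ Nat.card T * Nat.card R :=
    Cfsg.Agent.Helper54.card_sup_dvd_of_le_normalizer T R C.hRT
  have hRr : IsPGroup r R := isPGroup_of_card_prime C.hR
  have hcop : (Nat.card (sigmaCore H)).Coprime (Nat.card (T ⊔ R : Subgroup G)) := by
    apply Nat.Coprime.coprime_dvd_right hFd
    apply Nat.Coprime.mul_right
    · exact (coprime_of_isPGroup_not_dvd C.hT hqK).symm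
    · exact (coprime_of_isPGroup_not_dvd hRr hrK).symm
  obtain ⟨E₀, hE₀⟩ := exists_compl_sigmaCore hHall
  obtain ⟨EH, hEH, hFE⟩ := Cfsg.Agent.Helper22.BG11.exists_compl_ge E₀ hE₀ hKn hFH
    (Or.inl (solv_of_le_coatom hG hH (sigmaCore_le H))) hcop
  have hTE : T ≤ EH := le_sup_left.trans hFE
  have hRE : R ≤ EH := le_sup_right.trans hFE
  -- an elementary abelian subgroup of order `p ^ 2` of `EH`
  obtain ⟨Sp, hSpE, hSpc⟩ := exists_syl p EH
  rw [sylCard_compl hEH hpK] at hSpc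
  obtain ⟨F, hFH', hFe, hFc⟩ := exists_of_not_pRankLE h1
  rw [pow_one] at hFc
  obtain ⟨A, hAF, hAe, hAc⟩ := exists_elemAb_sq hFe hFc
  obtain ⟨l, -, hAl⟩ := exists_conj_le_sylow (isPGroup_of_isElementaryAbelian hAe)
    (hAF.trans hFH') (hSpE.trans hEH.1) hSpc
  have hA₂e : IsElementaryAbelian p (A.map (MulAut.conj l).toMonoidHom) :=
    isElementaryAbelian_conj hAe l
  have hA₂c : Nat.card (A.map (MulAut.conj l).toMonoidHom) = p ^ 2 := by
    rw [card_conj]; exact hAc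
  have hA₂E : A.map (MulAut.conj l).toMonoidHom ≤ EH := hAl.trans hSpE
  generalize A.map (MulAut.conj l).toMonoidHom = A₂ at hAl hA₂e hA₂c hA₂E
  have hEN : EH ≤ normalizer (A₂ : Set G) :=
    (Cfsg.Agent.S1418.result hG H hH EH hEH p hτ2 A₂ ⟨hA₂E, hA₂e, hA₂c⟩).1.1
  have hcomm : IsMulCommutative ↥⁅EH, EH⁆ := (Cfsg.Agent.S1420.result hG H hH EH hEH).2.1
  have hTD : T ≤ ⁅EH, EH⁆ := by
    rw [← C.hTR]; exact Subgroup.commutator_mono hTE hRE
  have hTN : T ≤ normalizer (A₂ : Set G) := hTE.trans hEN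
  have hAT : ⁅A₂, T⁆ ≤ ⁅EH, EH⁆ := Subgroup.commutator_mono hA₂E hTE
  have h2 : ⁅⁅A₂, T⁆, T⁆ = ⊥ := by
    rw [Subgroup.commutator_eq_bot_iff_le_centralizer]
    intro x hx
    rw [Subgroup.mem_centralizer_iff]
    intro t ht
    have hc := hcomm.is_comm.comm (⟨t, hTD ht⟩ : ↥⁅EH, EH⁆) ⟨x, hAT hx⟩
    exact congrArg Subtype.val hc
  have hcopTA : (Nat.card T).Coprime (Nat.card A₂) := by
    rw [hA₂c]
    apply Nat.Coprime.pow_right
    apply coprime_of_isPGroup_ne (p := p) hq.out C.hqp C.hT |>.symm.symm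
  have hTA : T ≤ centralizer (A₂ : Set G) :=
    Cfsg.Agent.Helper54.le_centralizer_of_coprime A₂ T hTN hcopTA h2
  exact global_false hG hM C.hE (fun h => C.hqp h.symm) C.hrk hni C.hqM C.hT C.hT1 C.hTM C.hP
    C.hPM C.hPT hA₂e hA₂c (Subgroup.le_centralizer_iff.mp hTA)

/-- case `r ∈ σ(H)`. -/
theorem case_r_sigma (hG : IsMinSimpleOddOrder G) {M H E P R T : Subgroup G} {p q r : ℕ}
    [Fact p.Prime] [Fact q.Prime] [Fact r.Prime] (C : Ctx M H E p q r P R T)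
    (hrH : r ∈ sigma H) : False :=
  case0_r_sigma hG C.toCtx0 hrH

/-- case `p ∉ σ(H)`. -/
theorem case_p_not_sigma (hG : IsMinSimpleOddOrder G) {M H E P R T : Subgroup G} {p q r : ℕ}
    [Fact p.Prime] [Fact q.Prime] [Fact r.Prime] (C : Ctx M H E p q r P R T)
    (hrH : r ∉ sigma H) (hpH : p ∉ sigma H) : False :=
  case0_p_not_sigma hG C.toCtx0 hrH hpH

end Cfsg.Agent.Helper15.BGW
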