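import Mathlib
import Cfsg.Agent.Lib.Helper15.BGV.Main27
import Cfsg.Agent.Lib.Helper15.BGW.Ctx0

/-!
# BG 13.3 (= S1428): the cases `q ∈ τ₂(H)` and `r ∈ τ₂(H)` (with `p ∈ σ(H)`) (helper15)
-/

set_option autoImplicit false
set_option linter.unusedSectionVars false

namespace Cfsg.Agent.Helper15.BGW

open Cfsg Subgroup Cfsg.Agent.Helper52 Cfsg.Agent.Helper15.BGU Cfsg.Agent.Helper55.BGB
open Cfsg.Agent.Helper15.BGV

variable {G : Type*} [Group G] [Finite G]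

/-- the basic kill: `P ≤ H_σ` cannot lie in a maximal subgroup `L' ≠ H` containing an
elementary abelian subgroup of order `s ^ 2` of `H`, `s ∈ τ₂(H)`. -/
theorem kill_tau2_A (hG : IsMinSimpleOddOrder G) {H P : Subgroup G} (hH : IsCoatom H) {p : ℕ}
    [hp : Fact p.Prime] (hpH : p ∈ sigma H) (hPH : P ≤ H) (hP : Nat.card P = p) {s : ℕ}
    [hs : Fact s.Prime] (hsH : s ∈ tau2 H) {A₂ L' : Subgroup G} (hA₂H : A₂ ≤ H)
    (hA₂e : IsElementaryAbelian s A₂) (hA₂c : Nat.card A₂ = s ^ 2) (hL' : IsCoatom L')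
    (hL'H : L' ≠ H) (hA₂L : A₂ ≤ L') (hPL : P ≤ L') : False := by
  have hHall := hallOf hG hH
  obtain ⟨-, -, -, -, he, -⟩ := Cfsg.Agent.S1417.result hG H hH s hsH A₂ ⟨hA₂H, hA₂e, hA₂c⟩
  have hbot : sigmaCore H ⊓ L' = ⊥ := he L' hL' hL'H hA₂L
  have hPσ : P ≤ sigmaCore H :=
    le_sigmaCore_of_isPGroup hp.out hHall hpH hPH (isPGroup_of_card_prime hP)
  have hPb : P ≤ ⊥ := hbot ▸ le_inf hPσ hPL
  exact ne_bot_of_card_prime hP (le_bot_iff.mp hPb)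

/-- the same with a Sylow `s`-subgroup of `H` inside `L'`. -/
theorem kill_tau2_S (hG : IsMinSimpleOddOrder G) {H P : Subgroup G} (hH : IsCoatom H) {p : ℕ}
    [hp : Fact p.Prime] (hpH : p ∈ sigma H) (hPH : P ≤ H) (hP : Nat.card P = p) {s : ℕ}
    [hs : Fact s.Prime] (hsH : s ∈ tau2 H) {S' L' : Subgroup G} (hS'H : S' ≤ H)
    (hS'c : Nat.card S' = sylCard s H) (hL' : IsCoatom L')
    (hL'H : L' ≠ H) (hS'L : S' ≤ L') (hPL : P ≤ L') : False := by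
  obtain ⟨F, hFH, hFe, hFc⟩ := exists_of_not_pRankLE hsH.2.2.2
  rw [pow_one] at hFc
  obtain ⟨A, hAF, hAe, hAc⟩ := exists_elemAb_sq hFe hFc
  obtain ⟨l, -, hAl⟩ := exists_conj_le_sylow (isPGroup_of_isElementaryAbelian hAe)
    (hAF.trans hFH) hS'H hS'c
  exact kill_tau2_A hG hH hpH hPH hP hsH (hAl.trans hS'H) (isElementaryAbelian_conj hAe l)
    (by rw [card_conj]; exact hAc) hL' hL'H (hAl.trans hS'L) hPL

/-- case `p ∈ σ(H)`, `q ∈ τ₂(H)`. -/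
theorem case0_q_tau2 (hG : IsMinSimpleOddOrder G) {M H E P R T : Subgroup G} {p q r : ℕ}
    [hp : Fact p.Prime] [hq : Fact q.Prime] [hr : Fact r.Prime] (C : Ctx0 M H E p q r P R T)
    (hpH : p ∈ sigma H) (hqH : q ∈ tau2 H) : False := by
  have hM := C.hM
  have hH := C.hH
  obtain ⟨L, hL, hNL⟩ := exists_coatom_ge (normalizer_ne_top_of_le_coatom hG hM C.hTM C.hT1)
  have hCL : centralizer (T : Set G) ≤ L := (Subgroup.centralizer_le_normalizer _).trans hNL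
  have hPL : P ≤ L := C.hPT.trans hCL
  by_cases hLH : L = H
  · -- `N_G(T) ≤ H`
    subst hLH
    obtain ⟨Sq, hTSq⟩ := exists_sylow_ge C.hT (le_inf C.hTM C.hTH)
    obtain ⟨-, -, hnd⟩ :=
      Cfsg.Agent.S1424.result hG M hM q C.hqM T C.hT C.hT1 C.hTM L hL C.hHM hNL Sq hTSq
    have hSq'ML : (Sq : Subgroup ↥(M ⊓ L)).map (M ⊓ L).subtype ≤ M ⊓ L :=
      Subgroup.map_subtype_le _
    have hSq'q : IsPGroup q ((Sq : Subgroup ↥(M ⊓ L)).map (M ⊓ L).subtype) :=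
      isPGroup_of_card_sylCard q (card_sylow_map q (M ⊓ L) Sq)
    generalize (Sq : Subgroup ↥(M ⊓ L)).map (M ⊓ L).subtype = Sq' at hTSq hnd hSq'ML hSq'q
    have hSq'L : Sq' ≤ L := hSq'ML.trans inf_le_right
    have hSq'c : Nat.card Sq' = sylCard q L :=
      card_eq_sylCard_of_not_dvd_relIndex hSq'L hSq'q hnd
    exact kill_tau2_S hG hL hpH C.hPH C.hP hqH hSq'L hSq'c hM (Ne.symm C.hHM)
      (hSq'ML.trans inf_le_left) C.hPM
  · -- `L ≠ H`: a Sylow `q`-subgroup of `H` over `T` is abelian, hence inside `C(T) ≤ L`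
    obtain ⟨Sq, hTSq, hSqH, hSqc⟩ := exists_syl_ge q C.hT C.hTH
    obtain ⟨F, hFH, hFe, hFc⟩ := exists_of_not_pRankLE hqH.2.2.2
    rw [pow_one] at hFc
    obtain ⟨A, hAF, hAe, hAc⟩ := exists_elemAb_sq hFe hFc
    obtain ⟨-, hab, -, -, -, -⟩ :=
      Cfsg.Agent.S1417.result hG H hH q hqH A ⟨hAF.trans hFH, hAe, hAc⟩
    obtain ⟨P₁, hP₁⟩ := exists_sylow_of_card q H Sq hSqH hSqc
    have hSqC : Sq ≤ centralizer (T : Set G) := by
      intro s hs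
      rw [Subgroup.mem_centralizer_iff]
      intro t ht
      have hs' : s ∈ (P₁ : Subgroup ↥H).map H.subtype := by rw [hP₁]; exact hs
      have ht' : t ∈ (P₁ : Subgroup ↥H).map H.subtype := by rw [hP₁]; exact hTSq ht
      obtain ⟨s', hs'', rfl⟩ := hs'
      obtain ⟨t', ht'', rfl⟩ := ht'
      have hc := (hab P₁).1
      have h1 := hc.is_comm.comm (⟨t', ht''⟩ : ↥(P₁ : Subgroup ↥H)) ⟨s', hs''⟩
      have h2 := congrArg Subtype.val h1
      have h3 := congrArg Subtype.val h2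
      simpa using h3
    exact kill_tau2_S hG hH hpH C.hPH C.hP hqH hSqH hSqc hL hLH (hSqC.trans hCL) hPL

/-- case `p ∈ σ(H)`, `r ∈ τ₂(H)`. -/
theorem case0_r_tau2 (hG : IsMinSimpleOddOrder G) {M H E P R T : Subgroup G} {p q r : ℕ}
    [hp : Fact p.Prime] [hq : Fact q.Prime] [hr : Fact r.Prime] (C : Ctx0 M H E p q r P R T)
    (hpH : p ∈ sigma H) (hrH : r ∈ tau2 H) : False := by
  have hM := C.hM
  have hH := C.hH
  by_cases hqH : q ∈ sigma H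
  · exact tau2_sigma_false hG hM hH C.hnc hrH C.hqM hqH
  have hRr : IsPGroup r R := isPGroup_of_card_prime C.hR
  obtain ⟨A₁, hA₁H, hA₁e, hA₁c, hA₁T⟩ :=
    exists_elemAb_centralizing hG hH (fun h => C.hqr h.symm) hrH hqH hRr C.hRH C.hT C.hTH C.hRT
  rw [C.hTR] at hA₁T
  obtain ⟨L, hL, hNL⟩ := exists_coatom_ge (normalizer_ne_top_of_le_coatom hG hM C.hTM C.hT1)
  have hCL : centralizer (T : Set G) ≤ L := (Subgroup.centralizer_le_normalizer _).trans hNL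
  have hPL : P ≤ L := C.hPT.trans hCL
  by_cases hLH : L = H
  swap
  · exact kill_tau2_A hG hH hpH C.hPH C.hP hrH hA₁H hA₁e hA₁c hL hLH (hA₁T.trans hCL) hPL
  subst hLH
  obtain ⟨Sq, hTSq⟩ := exists_sylow_ge C.hT (le_inf C.hTM C.hTH)
  obtain ⟨-, -, hnd⟩ :=
    Cfsg.Agent.S1424.result hG M hM q C.hqM T C.hT C.hT1 C.hTM L hL C.hHM hNL Sq hTSq
  have hSq'ML : (Sq : Subgroup ↥(M ⊓ L)).map (M ⊓ L).subtype ≤ M ⊓ L :=
    Subgroup.map_subtype_le _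
  have hSq'q : IsPGroup q ((Sq : Subgroup ↥(M ⊓ L)).map (M ⊓ L).subtype) :=
    isPGroup_of_card_sylCard q (card_sylow_map q (M ⊓ L) Sq)
  generalize (Sq : Subgroup ↥(M ⊓ L)).map (M ⊓ L).subtype = Sq' at hTSq hnd hSq'ML hSq'q
  have hSq'L : Sq' ≤ L := hSq'ML.trans inf_le_right
  have hSq'M : Sq' ≤ M := hSq'ML.trans inf_le_left
  have hSq'c : Nat.card Sq' = sylCard q L :=
    card_eq_sylCard_of_not_dvd_relIndex hSq'L hSq'q hnd
  have hqL : q ∣ Nat.card L := dvd_card_of_le C.hT C.hT1 C.hTH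
  have hnc : ¬ IsCyclic ↥Sq' := by
    intro hcyc
    apply hqH
    refine ⟨hq.out, hqL, ?_⟩
    obtain ⟨P₁, hP₁⟩ := exists_sylow_of_card q L Sq' hSq'L hSq'c
    refine ⟨P₁, ?_⟩
    rw [hP₁]
    intro g hg
    apply hNL
    apply Cfsg.Agent.Helper52.mem_normalizer_of_map_conj_eq
    apply map_conj_eq_of_le_cyclic hcyc hTSq g
    calc T.map (MulAut.conj g).toMonoidHom ≤ Sq'.map (MulAut.conj g).toMonoidHom :=
          Subgroup.map_mono hTSq
      _ = Sq' := map_conj_eq_of_mem_normalizer hg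
  have hT1c : 1 < Nat.card T := by
    rcases Nat.lt_or_ge 1 (Nat.card T) with h | h
    · exact h
    · exfalso
      apply C.hT1
      apply Subgroup.card_eq_one.mp
      have : 0 < Nat.card T := Nat.card_pos
      omega
  have hq2 : q ≠ 2 := p_ne_two_of_odd hG.1 C.hT hT1c
  obtain ⟨F, hFS, hFe, hFc⟩ :=
    Cfsg.Agent.Helper96.BGU.exists_elemAb_of_not_isCyclic hq2 Sq' hSq'q hnc
  rw [pow_one] at hFc
  obtain ⟨Aq, hAqF, hAqe, hAqc⟩ := exists_elemAb_sq hFe hFc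
  have hAqS : Aq ≤ Sq' := hAqF.trans hFS
  have hAqL : Aq ≤ L := hAqS.trans hSq'L
  have hAqM : Aq ≤ M := hAqS.trans hSq'M
  have hqq : q < q ^ 2 := by
    have := hq.out.one_lt
    nlinarith
  have hlt : q ^ 1 < Nat.card Aq := by rw [hAqc, pow_one]; exact hqq
  have h05 := Cfsg.Agent.S1405.result hG L hL
  have hτ2 : q ∈ tau2 L :=
    ⟨hq.out, hqH, prankLE_two_of_not_mem_sigma hq.out h05.1 h05.2.2.1 hqH,
      not_pRankLE_of_le hAqL hAqe hlt⟩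
  exact kill_tau2_A hG hL hpH C.hPH C.hP hτ2 hAqL hAqe hAqc hM (Ne.symm C.hHM) hAqM C.hPM

/-- case `p ∈ σ(H)`, `q ∈ τ₂(H)`. -/
theorem case_q_tau2 (hG : IsMinSimpleOddOrder G) {M H E P R T : Subgroup G} {p q r : ℕ}
    [Fact p.Prime] [Fact q.Prime] [Fact r.Prime] (C : Ctx M H E p q r P R T)
    (hpH : p ∈ sigma H) (hqH : q ∈ tau2 H) : False :=
  case0_q_tau2 hG C.toCtx0 hpH hqH

/-- case `p ∈ σ(H)`, `r ∈ τ₂(H)`. -/
theorem case_r_tau2 (hG : IsMinSimpleOddOrder G) {M H E P R T : Subgroup G} {p q r : ℕ}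
    [Fact p.Prime] [Fact q.Prime] [Fact r.Prime] (C : Ctx M H E p q r P R T)
    (hpH : p ∈ sigma H) (hrH : r ∈ tau2 H) : False :=
  case0_r_tau2 hG C.toCtx0 hpH hrH

end Cfsg.Agent.Helper15.BGW
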