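import Mathlib
import Cfsg.Agent.Lib.Helper15.BGV.Main27
import Cfsg.Agent.Lib.Helper15.BGW.Ctx0
import Cfsg.Agent.Lib.Helper82.BG1215c
import Cfsg.Agent.Lib.Helper97.BG144
import Cfsg.Agent.Lib.Helper64.Basic
import Cfsg.Agent.S1403

/-!
# BG 13.3 (= S1428): the case `q ∈ σ(H)`, `p ∈ σ(H) - β(H)` (helper15)

(the argument of BG 12.14(d): `H = H_β (M^k ∩ H)` forces `p ∤ |H'|`.)
-/

set_option autoImplicit false
set_option linter.unusedSectionVars false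

namespace Cfsg.Agent.Helper15.BGW

open Cfsg Subgroup Cfsg.Agent.Helper52 Cfsg.Agent.Helper15.BGU Cfsg.Agent.Helper55.BGB
open Cfsg.Agent.Helper15.BGV
open scoped commutatorElement

variable {G : Type*} [Group G]

theorem commutator_self_le (L : Subgroup G) : ⁅L, L⁆ ≤ L := by
  rw [Subgroup.commutator_le]
  intro a ha b hb
  rw [commutatorElement_def]
  exact L.mul_mem (L.mul_mem (L.mul_mem ha hb) (L.inv_mem ha)) (L.inv_mem hb)

/-- the derived subgroup of `L = N₀ D` (`N₀` normal in `L`) lies in `N₀ D'`. -/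
theorem commutator_le_of_dec {L N₀ D : Subgroup G} (hn : L ≤ normalizer (N₀ : Set G))
    (hDL : D ≤ L) (hdec : ∀ l ∈ L, ∃ b ∈ N₀, ∃ c ∈ D, l = b * c) :
    ⁅L, L⁆ ≤ N₀ ⊔ ⁅D, D⁆ := by
  rw [Subgroup.commutator_le]
  intro l₁ hl₁ l₂ hl₂
  obtain ⟨b₁, hb₁, c₁, hc₁, rfl⟩ := hdec l₁ hl₁
  obtain ⟨b₂, hb₂, c₂, hc₂, rfl⟩ := hdec l₂ hl₂
  have hc₁L := hDL hc₁
  have hc₂L := hDL hc₂
  have e : ⁅b₁ * c₁, b₂ * c₂⁆ =
      (b₁ * (c₁ * b₂ * c₁⁻¹) * ((c₁ * c₂ * c₁⁻¹) * b₁⁻¹ * (c₁ * c₂ * c₁⁻¹)⁻¹) *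
        ((c₁ * c₂ * c₁⁻¹ * c₂⁻¹) * b₂⁻¹ * (c₁ * c₂ * c₁⁻¹ * c₂⁻¹)⁻¹)) * ⁅c₁, c₂⁆ := by
    rw [commutatorElement_def, commutatorElement_def]
    group
  rw [e]
  refine Subgroup.mul_mem _ (Subgroup.mem_sup_left ?_)
    (Subgroup.mem_sup_right (Subgroup.commutator_mem_commutator hc₁ hc₂))
  refine N₀.mul_mem (N₀.mul_mem (N₀.mul_mem hb₁ ?_) ?_) ?_
  · exact conj_mem_of_mem_normalizer (hn hc₁L) hb₂
  · exact conj_mem_of_mem_normalizer
      (hn (L.mul_mem (L.mul_mem hc₁L hc₂L) (L.inv_mem hc₁L))) (N₀.inv_mem hb₁)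
  · exact conj_mem_of_mem_normalizer
      (hn (L.mul_mem (L.mul_mem (L.mul_mem hc₁L hc₂L) (L.inv_mem hc₁L)) (L.inv_mem hc₂L)))
      (N₀.inv_mem hb₂)

variable [Finite G]

/-- ... hence a prime dividing neither `|N₀|` nor `|M'|` (`D ≤ M`) does not divide `|L'|`. -/
theorem not_dvd_card_commutator_of_dec {L N₀ D M : Subgroup G} {p : ℕ} (hp : p.Prime)
    (hn : L ≤ normalizer (N₀ : Set G)) (hDL : D ≤ L) (hDM : D ≤ M)
    (hdec : ∀ l ∈ L, ∃ b ∈ N₀, ∃ c ∈ D, l = b * c) (hpN : ¬ p ∣ Nat.card N₀)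
    (hpM : ¬ p ∣ Nat.card ↥⁅M, M⁆) : ¬ p ∣ Nat.card ↥⁅L, L⁆ := by
  intro hd
  have h1 : ⁅L, L⁆ ≤ N₀ ⊔ ⁅D, D⁆ := commutator_le_of_dec hn hDL hdec
  have hDD : ⁅D, D⁆ ≤ normalizer (N₀ : Set G) :=
    (commutator_self_le D).trans (hDL.trans hn)
  have h2 : Nat.card (N₀ ⊔ ⁅D, D⁆ : Subgroup G) ∣ Nat.card N₀ * Nat.card ↥⁅D, D⁆ :=
    Cfsg.Agent.Helper54.card_sup_dvd_of_le_normalizer N₀ ⁅D, D⁆ hDD
  have h3 : p ∣ Nat.card N₀ * Nat.card ↥⁅D, D⁆ :=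
    (hd.trans (Subgroup.card_dvd_of_le h1)).trans h2
  rcases (Nat.Prime.dvd_mul hp).mp h3 with h | h
  · exact hpN h
  · exact hpM (h.trans (Subgroup.card_dvd_of_le (Subgroup.commutator_mono hDM hDM)))

/-- `S1403` in the form used by the team libraries. -/
theorem uniqHyp (hG : IsMinSimpleOddOrder G) : Cfsg.Agent.Helper34.BG.UniqHyp G :=
  fun K hK hK2 hK3 => Cfsg.Agent.S1403.result hG K hK hK2 hK3

/-- a prime of `σ(L)` dividing `|P|`, `P ≤ L`, divides `|L'|`. -/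
theorem dvd_card_commutator_of_mem_sigma (hG : IsMinSimpleOddOrder G) {L P : Subgroup G}
    (hL : IsCoatom L) {p : ℕ} [hp : Fact p.Prime] (hpL : p ∈ sigma L) (hPL : P ≤ L)
    (hP : Nat.card P = p) : p ∣ Nat.card ↥⁅L, L⁆ := by
  have hPσ : P ≤ sigmaCore L :=
    le_sigmaCore_of_isPGroup hp.out (hallOf hG hL) hpL hPL (isPGroup_of_card_prime hP)
  have h1 : P ≤ ⁅L, L⁆ :=
    hPσ.trans (Cfsg.Agent.Helper34.BG.sigmaCore_le_commutator hG (uniqHyp hG) hL)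
  have h2 := Subgroup.card_dvd_of_le h1
  rwa [hP] at h2

/-- case `q ∈ σ(H)`, `p ∈ σ(H) - β(H)` (no use of `T`, `R`). -/
theorem case_q_sigma (hG : IsMinSimpleOddOrder G) {M H E P R T : Subgroup G} {p q r : ℕ}
    [hp : Fact p.Prime] [hq : Fact q.Prime] [hr : Fact r.Prime] (C : Ctx M H E p q r P R T)
    (hpH : p ∈ sigma H) (hpβ : p ∉ beta H) (hqH : q ∈ sigma H) : False := by
  have hM := C.hM
  have hH := C.hH
  have hU := uniqHyp hG
  -- Sylow `q`-subgroups of `M` and `H`, both Sylow in `G`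
  obtain ⟨PH⟩ : Nonempty (Sylow q ↥H) := inferInstance
  have hSHc : Nat.card ((PH : Subgroup ↥H).map H.subtype) = sylCard q H := card_sylow_map q H PH
  have hSHsyl := Cfsg.Agent.Helper33.isSylIn_of_sylow H PH
  have hSHH : (PH : Subgroup ↥H).map H.subtype ≤ H := Subgroup.map_subtype_le _
  generalize (PH : Subgroup ↥H).map H.subtype = SH at hSHc hSHsyl hSHH
  obtain ⟨SM, hSMM, hSMc⟩ := exists_syl q M
  have hNSM : normalizer (SM : Set G) ≤ M := normalizer_le_of_mem_sigma C.hqM hSMM hSMc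
  have c₁ := card_eq_sylCard_top_of_mem_sigma C.hqM hSMM hSMc
  have c₂ := card_eq_sylCard_top_of_mem_sigma hqH hSHH hSHc
  obtain ⟨k, -, hk⟩ := exists_conj_of_card q ⊤ SM SH le_top le_top c₁ c₂
  -- the conjugate `M₁` of `M`
  have hM₁ : IsCoatom (M.map (MulAut.conj k).toMonoidHom) :=
    Cfsg.Agent.Helper64.isCoatom_map_conj M k hM
  have hSHM₁ : SH ≤ M.map (MulAut.conj k).toMonoidHom := by
    rw [hk]; exact Subgroup.map_mono hSMM
  have hNSH : normalizer (SH : Set G) ≤ M.map (MulAut.conj k).toMonoidHom := by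
    rw [hk, ← Subgroup.map_equiv_normalizer_eq SM (MulAut.conj k)]
    exact Subgroup.map_mono hNSM
  have hcomp : ∀ g : G, (M.map (MulAut.conj k).toMonoidHom).map (MulAut.conj g).toMonoidHom =
      M.map (MulAut.conj (g * k)).toMonoidHom := by
    intro g
    rw [Subgroup.map_map]
    congr 1
    ext x
    simp [mul_assoc]
  have hconj : ∀ g : G, H ≠ (M.map (MulAut.conj k).toMonoidHom).map (MulAut.conj g).toMonoidHom := by
    intro g
    rw [hcomp g]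
    exact C.hnc (g * k)
  have hne : H ≠ M.map (MulAut.conj k).toMonoidHom := C.hnc k
  have hpM₁ : ¬ p ∣ Nat.card ↥⁅M.map (MulAut.conj k).toMonoidHom,
      M.map (MulAut.conj k).toMonoidHom⁆ := by
    rw [← Subgroup.map_commutator, card_conj]
    exact C.hpM.2.2.2.1
  generalize M.map (MulAut.conj k).toMonoidHom = M₁ at hM₁ hSHM₁ hNSH hconj hne hpM₁
  have h1350 : Cfsg.Agent.Helper82.BG1215.H1350 G := fun K hK =>
    ⟨(Cfsg.Agent.S1350.result hG K hK).1, (Cfsg.Agent.S1350.result hG K hK).2.1⟩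
  have h1414 : Cfsg.Agent.Helper82.BG1215.H1414 G := fun K hK =>
    ⟨(Cfsg.Agent.S1414.result hG K hK).1, (Cfsg.Agent.S1414.result hG K hK).2.2.2.1⟩
  obtain ⟨hdec, -⟩ := Cfsg.Agent.Helper82.BG1215.caseB hG hU h1350 h1414 hM₁ hH hne hqH hSHsyl
    hSHM₁ hNSH hconj
  -- `p ∤ |H'|`
  have h14 := Cfsg.Agent.S1414.result hG H hH
  have hpN : ¬ p ∣ Nat.card (piCoreOf (beta H) H) := fun hd => hpβ (h14.1.2.1 p hp.out hd)
  have hn : H ≤ normalizer ((piCoreOf (beta H) H : Subgroup G) : Set G) :=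
    Cfsg.Agent.Helper54.le_normalizer_piCoreOf (beta H) H
  have hnd := not_dvd_card_commutator_of_dec hp.out hn (inf_le_right : M₁ ⊓ H ≤ H)
    (inf_le_left : M₁ ⊓ H ≤ M₁) hdec hpN hpM₁
  exact hnd (dvd_card_commutator_of_mem_sigma hG hH hpH C.hPH C.hP)

end Cfsg.Agent.Helper15.BGW
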