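import Mathlib
import Cfsg.Agent.Lib.Helper15.BGV.Main27
import Cfsg.Agent.Lib.Helper15.BGW.Ctx0
import Cfsg.Agent.Lib.Helper90.BGOmega

/-!
# BG 13.3 (= S1428): the case `q ∉ σ(H)`, `H` of `q`-rank one, `p ∈ σ(H) - β(H)`
(helper90's kill of the configuration (Ω), wired to `Ctx`.)
-/

set_option autoImplicit false
set_option linter.unusedSectionVars false

namespace Cfsg.Agent.Helper15.BGW

open Cfsg Subgroup Cfsg.Agent.Helper52 Cfsg.Agent.Helper15.BGU Cfsg.Agent.Helper55.BGB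
open Cfsg.Agent.Helper15.BGV

variable {G : Type*} [Group G] [Finite G]

theorem case_q_rank1 (hG : IsMinSimpleOddOrder G) {M H E P R T : Subgroup G} {p q r : ℕ}
    [hp : Fact p.Prime] [hq : Fact q.Prime] [hr : Fact r.Prime] (C : Ctx M H E p q r P R T)
    (hpH : p ∈ sigma H) (hpβ : p ∉ beta H) (hqH : q ∉ sigma H) (hq1 : PRankLE q 1 H) :
    False := by
  obtain ⟨X, hXT, hX⟩ := exists_card_prime_le C.hT C.hT1
  have hqd : q ∣ Nat.card ↥⁅H, H⁆ := dvd_card_of_le C.hT C.hT1 C.hTH'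
  have hτ3 : q ∈ tau3 H := ⟨hq.out, hqH, hqd, hq1⟩
  have hPX : P ≤ centralizer (X : Set G) :=
    C.hPT.trans (Subgroup.centralizer_le (by exact_mod_cast hXT))
  exact Cfsg.Agent.Helper90.BGOmega.omega_false hG M H C.hM C.hH p q C.hpM.2.2.2.1 P C.hPM C.hP
    hpH hpβ C.hqM X (hXT.trans C.hTM) hX hPX hτ3 (hXT.trans C.hTH')

end Cfsg.Agent.Helper15.BGW
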