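import Mathlib
import Cfsg.Agent.Lib.Helper15.BGV.Main27
import Cfsg.Agent.Lib.Helper15.BGW.Ctx0
import Cfsg.Agent.Lib.Helper75.S1423A2
import Cfsg.Agent.Lib.Helper34.BG10c
import Cfsg.Agent.Lib.Helper79.BG10.Alpha
import Cfsg.Agent.S1403

/-!
# BG 13.3 (= S1428): the case `r ∈ τ₃(H)` (helper15)

`R ≤ H'` (the cyclic Sylow `r`-subgroups of `H` meet `H'`), so `T R ≤ H'` is a `β(H)'`-group,
hence nilpotent (S1414), and `[T, R] = 1`.
-/

set_option autoImplicit false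
set_option linter.unusedSectionVars false

namespace Cfsg.Agent.Helper15.BGW

open Cfsg Subgroup Cfsg.Agent.Helper52 Cfsg.Agent.Helper15.BGU Cfsg.Agent.Helper55.BGB
open Cfsg.Agent.Helper15.BGV

variable {G : Type*} [Group G] [Finite G]

/-- a subgroup of prime order `r` of `H` lies in `H'` when `r ∈ τ₃(H)`. -/
theorem le_commutator_of_tau3 (hG : IsMinSimpleOddOrder G) {H R : Subgroup G} {r : ℕ}
    [hr : Fact r.Prime] (hrH : r ∈ tau3 H) (hRH : R ≤ H) (hR : Nat.card R = r) :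
    R ≤ ⁅H, H⁆ := by
  have hr1 : PRankLE r 1 H := hrH.2.2.2
  have hrd : r ∣ Nat.card ↥⁅H, H⁆ := hrH.2.2.1
  have hRr : IsPGroup r R := isPGroup_of_card_prime hR
  have hR1c : 1 < Nat.card R := by rw [hR]; exact hr.out.one_lt
  have hr2 : r ≠ 2 := p_ne_two_of_odd hG.1 hRr hR1c
  -- a subgroup of order `r` of `H'`
  obtain ⟨Qr, hQrD, hQrc⟩ := exists_syl r (⁅H, H⁆ : Subgroup G)
  have hQrr : IsPGroup r Qr := isPGroup_of_card_sylCard r hQrc
  have hQr1 : Qr ≠ ⊥ := by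
    intro h
    rw [h, Subgroup.card_bot] at hQrc
    have h1 : r ∣ sylCard r (⁅H, H⁆ : Subgroup G) := by
      unfold sylCard
      apply dvd_pow_self
      exact (Nat.Prime.factorization_pos_of_dvd hr.out Nat.card_pos.ne' hrd).ne'
    rw [← hQrc] at h1
    exact hr.out.one_lt.ne' (Nat.dvd_one.mp h1)
  obtain ⟨X, hXQ, hX⟩ := exists_card_prime_le hQrr hQr1
  have hXD : X ≤ ⁅H, H⁆ := hXQ.trans hQrD
  have hDH : (⁅H, H⁆ : Subgroup G) ≤ H := by
    rw [Subgroup.commutator_le]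
    intro a ha b hb
    rw [commutatorElement_def]
    exact H.mul_mem (H.mul_mem (H.mul_mem ha hb) (H.inv_mem ha)) (H.inv_mem hb)
  have hXH : X ≤ H := hXD.trans hDH
  -- a cyclic Sylow `r`-subgroup of `H` over `R`
  obtain ⟨Sr, hRS, hSrH, hSrc⟩ := exists_syl_ge r hRr hRH
  have hSrr : IsPGroup r Sr := isPGroup_of_card_sylCard r hSrc
  have hcyc : IsCyclic ↥Sr := by
    by_contra hnc
    obtain ⟨F, hFS, hFe, hFc⟩ :=
      Cfsg.Agent.Helper96.BGU.exists_elemAb_of_not_isCyclic hr2 Sr hSrr hnc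
    exact not_pRankLE_of_le (hFS.trans hSrH) hFe hFc hr1
  obtain ⟨l, hl, hXl⟩ := exists_conj_le_sylow (isPGroup_of_card_prime hX) hXH hSrH hSrc
  have hXlc : Nat.card (X.map (MulAut.conj l).toMonoidHom) = r := by rw [card_conj]; exact hX
  have hXlD : X.map (MulAut.conj l).toMonoidHom ≤ ⁅H, H⁆ := by
    have h1 : X.map (MulAut.conj l).toMonoidHom ≤
        (⁅H, H⁆ : Subgroup G).map (MulAut.conj l).toMonoidHom := Subgroup.map_mono hXD
    rw [Subgroup.map_commutator,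
      map_conj_eq_of_mem_normalizer (Subgroup.le_normalizer hl)] at h1
    exact h1
  generalize X.map (MulAut.conj l).toMonoidHom = X' at hXl hXlc hXlD
  have hRe : IsElementaryAbelian r R := Cfsg.Agent.Helper34.BG.isElementaryAbelian_of_card_prime hR
  have hXe : IsElementaryAbelian r X' :=
    Cfsg.Agent.Helper34.BG.isElementaryAbelian_of_card_prime hXlc
  have hRX : R ≤ centralizer (X' : Set G) := by
    intro a ha
    rw [Subgroup.mem_centralizer_iff]
    intro x hx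
    exact commute_of_isCyclic hcyc (hXl hx) (hRS ha)
  have hsup : IsElementaryAbelian r (R ⊔ X') :=
    Cfsg.Agent.Helper75.S1423A2.elemAb_sup hRe hXe hRX
  have hsupH : R ⊔ X' ≤ H := sup_le hRH (hXl.trans hSrH)
  have hcard : Nat.card (R ⊔ X' : Subgroup G) ≤ r := by
    by_contra hlt
    push Not at hlt
    exact not_pRankLE_of_le (k := 1) hsupH hsup (by rw [pow_one]; exact hlt) hr1
  have hReq : R = R ⊔ X' := by
    apply Subgroup.eq_of_le_of_card_ge le_sup_left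
    rw [hR]; exact hcard
  have hX'R : X' ≤ R := by
    rw [hReq]; exact le_sup_right
  have hX'eq : X' = R := by
    apply Subgroup.eq_of_le_of_card_ge hX'R
    rw [hXlc, hR]
  rw [← hX'eq]; exact hXlD

/-- case `r ∈ τ₃(H)`. -/
theorem case0_r_tau3 (hG : IsMinSimpleOddOrder G) {M H E P R T : Subgroup G} {p q r : ℕ}
    [hp : Fact p.Prime] [hq : Fact q.Prime] [hr : Fact r.Prime] (C : Ctx0 M H E p q r P R T)
    (hrH : r ∈ tau3 H) : False := by
  have hM := C.hM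
  have hH := C.hH
  have hRD : R ≤ ⁅H, H⁆ := le_commutator_of_tau3 hG hrH C.hRH C.hR
  have hRr : IsPGroup r R := isPGroup_of_card_prime C.hR
  have hU79 : Cfsg.Agent.Helper79.BG10.UniqHyp G :=
    fun K hK hK2 hK3 => Cfsg.Agent.S1403.result hG K hK hK2 hK3
  have hασ := Cfsg.Agent.Helper79.BG10.alpha_subset_sigma hG hU79 hH
  have hrβ : r ∉ beta H := fun h => hrH.2.1 (hασ h.1)
  have hqβ : q ∉ beta H := by
    intro h
    exact not_mem_beta_of_ne hG hM hH C.hHM C.hqM (hασ h.1) C.hT C.hT1 C.hTM C.hTH h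
  -- the nilpotent Hall `β(H)'`-subgroup of `H'`
  obtain ⟨K₁, ⟨hK₁D, hK₁π, hK₁i⟩, hK₁n⟩ := (Cfsg.Agent.S1414.result hG H hH).2.2.1
  have hDH : (⁅H, H⁆ : Subgroup G) ≤ H := by
    rw [Subgroup.commutator_le]
    intro a ha b hb
    rw [commutatorElement_def]
    exact H.mul_mem (H.mul_mem (H.mul_mem ha hb) (H.inv_mem ha)) (H.inv_mem hb)
  have hDsolv : Group.IsSolvable ↥(⁅H, H⁆ : Subgroup G) := solv_of_le_coatom hG hH hDH
  have hmn : Nat.card ↥(⁅H, H⁆ : Subgroup G) = Nat.card K₁ * K₁.relIndex ⁅H, H⁆ :=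
    (card_mul_relIndex_eq hK₁D).symm
  have hcopmn : (Nat.card K₁).Coprime (K₁.relIndex ⁅H, H⁆) := by
    apply Nat.coprime_of_dvd
    intro k hk hkm hkn
    exact hK₁i k hk (hK₁π k hk hkm) hkn
  have hFD : T ⊔ R ≤ ⁅H, H⁆ := sup_le C.hTH' hRD
  have hFd : Nat.card (T ⊔ R : Subgroup G) ∣ Nat.card T * Nat.card R :=
    Cfsg.Agent.Helper54.card_sup_dvd_of_le_normalizer T R C.hRT
  have hFn : (Nat.card (T ⊔ R : Subgroup G)).Coprime (K₁.relIndex ⁅H, H⁆) := by
    apply Nat.Coprime.coprime_dvd_left hFd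
    apply Nat.Coprime.mul_left
    · obtain ⟨a, ha⟩ := IsPGroup.iff_card.mp C.hT
      rw [ha]
      apply Nat.Coprime.pow_left
      rw [Nat.Prime.coprime_iff_not_dvd hq.out]
      exact hK₁i q hq.out ⟨hq.out, hqβ⟩
    · rw [C.hR, Nat.Prime.coprime_iff_not_dvd hr.out]
      exact hK₁i r hr.out ⟨hr.out, hrβ⟩
  obtain ⟨Q, hQD, hQc, hFQ, -⟩ := exists_invariant_hall_ge (⊥ : Subgroup G) ⁅H, H⁆ (T ⊔ R)
    bot_le (by rw [Subgroup.card_bot]; exact Nat.coprime_one_left _) hDsolv (Nat.card K₁)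
    (K₁.relIndex ⁅H, H⁆) hmn hcopmn hFD bot_le hFn
  obtain ⟨k, -, hkQ⟩ := hall_conj_internal ⁅H, H⁆ hDsolv (Nat.card K₁) (K₁.relIndex ⁅H, H⁆)
    hmn hcopmn K₁ Q hK₁D hQD rfl hQc
  have hQnil : Group.IsNilpotent ↥Q := by
    rw [hkQ]
    haveI := hK₁n
    exact nilpotent_of_mulEquiv
      (K₁.equivMapOfInjective (MulAut.conj k).toMonoidHom (MulAut.conj k).injective)
  have hTQ : T ≤ Q := le_sup_left.trans hFQ
  have hRQ : R ≤ Q := le_sup_right.trans hFQ
  obtain ⟨QH, hQHQ, hQHc, hQn⟩ :=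
    exists_normal_sylow_of_nilpotent hQnil (Subgroup.le_normalizer : Q ≤ normalizer (Q : Set G)) r
  have hQHr : IsPGroup r QH := isPGroup_of_card_sylCard r hQHc
  obtain ⟨l, hl, hRl⟩ := exists_conj_le_sylow hRr hRQ hQHQ hQHc
  have hRQH : R ≤ QH := by
    have h1 := map_conj_le_of_le_normalizer hRl (hQn (Q.inv_mem hl))
    rwa [map_conj_inv_map_conj] at h1
  have hd : T ⊓ QH = ⊥ := by
    apply inf_eq_bot_of_coprime_card
    obtain ⟨a, ha⟩ := IsPGroup.iff_card.mp C.hT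
    obtain ⟨b, hb⟩ := IsPGroup.iff_card.mp hQHr
    rw [ha, hb]
    exact Nat.Coprime.pow _ _ ((Nat.coprime_primes hq.out hr.out).mpr C.hqr)
  have hRC : R ≤ centralizer (T : Set G) :=
    le_centralizer_of_disjoint hRQH (hTQ.trans hQn) C.hRT hd
  apply C.hT1
  rw [← C.hTR, Subgroup.commutator_eq_bot_iff_le_centralizer]
  exact Subgroup.le_centralizer_iff.mp hRC

/-- case `r ∈ τ₃(H)`. -/
theorem case_r_tau3 (hG : IsMinSimpleOddOrder G) {M H E P R T : Subgroup G} {p q r : ℕ}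
    [Fact p.Prime] [Fact q.Prime] [Fact r.Prime] (C : Ctx M H E p q r P R T)
    (hrH : r ∈ tau3 H) : False :=
  case0_r_tau3 hG C.toCtx0 hrH

end Cfsg.Agent.Helper15.BGW
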