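import Mathlib
import Cfsg.Agent.Lib.Helper15.BGV.Main27
import Cfsg.Agent.Lib.Helper15.BGW.Ctx
import Cfsg.Agent.Lib.Helper99.BG133x
import Cfsg.Agent.Lib.Helper15.BGW.CaseA
import Cfsg.Agent.Lib.Helper15.BGW.CaseB
import Cfsg.Agent.Lib.Helper15.BGW.CaseC
import Cfsg.Agent.Lib.Helper15.BGW.CaseD
import Cfsg.Agent.Lib.Helper15.BGW.CaseE
import Cfsg.Agent.Lib.Helper75.S1423A2
import Cfsg.Agent.Lib.Helper34.BG10c

/-!
# BG 13.3 (= S1428): top level (helper15)
-/

set_option autoImplicit false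
set_option linter.unusedSectionVars false

namespace Cfsg.Agent.Helper15.BGW

open Cfsg Subgroup Cfsg.Agent.Helper52 Cfsg.Agent.Helper15.BGU Cfsg.Agent.Helper55.BGB
open Cfsg.Agent.Helper15.BGV

variable {G : Type*} [Group G] [Finite G]

/-- the case analysis: no configuration `Ctx` exists. -/
theorem core28 (hG : IsMinSimpleOddOrder G) {M H E P R T : Subgroup G} {p q r : ℕ}
    [hp : Fact p.Prime] [hq : Fact q.Prime] [hr : Fact r.Prime] (C : Ctx M H E p q r P R T) :
    False := by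
  have hH := C.hH
  by_cases hrH : r ∈ sigma H
  · exact case_r_sigma hG C hrH
  by_cases hpH : p ∈ sigma H
  swap
  · exact case_p_not_sigma hG C hrH hpH
  have h5 := Cfsg.Agent.S1405.result hG H hH
  have hr2 : PRankLE r 2 H := prankLE_two_of_not_mem_sigma hr.out h5.1 h5.2.2.1 hrH
  by_cases hr1 : PRankLE r 1 H
  swap
  · exact case_r_tau2 hG C hpH ⟨hr.out, hrH, hr2, hr1⟩
  by_cases hrd : r ∣ Nat.card ↥⁅H, H⁆
  · exact case_r_tau3 hG C ⟨hr.out, hrH, hrd, hr1⟩
  have hrdH : r ∣ Nat.card H := by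
    have h1 : Nat.card R ∣ Nat.card H := Subgroup.card_dvd_of_le C.hRH
    rwa [C.hR] at h1
  have hrτ : r ∈ tau1 H := ⟨hr.out, hrH, hrdH, hrd, hr1⟩
  by_cases hpα : p ∈ alpha H
  · exact Cfsg.Agent.Helper99.BG133.case_alpha hG C hpH hpα hrτ
  have hpβ : p ∉ beta H := fun h => hpα h.1
  by_cases hqH : q ∈ sigma H
  · exact case_q_sigma hG C hpH hpβ hqH
  have hq2 : PRankLE q 2 H := prankLE_two_of_not_mem_sigma hq.out h5.1 h5.2.2.1 hqH
  by_cases hq1 : PRankLE q 1 H
  · exact case_q_rank1 hG C hpH hpβ hqH hq1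
  · exact case_q_tau2 hG C hpH ⟨hq.out, hqH, hq2, hq1⟩

/-- **BG 13.3** (the statement of S1428). -/
theorem main28 (hG : IsMinSimpleOddOrder G) {M : Subgroup G} (hM : IsCoatom M) {E : Subgroup G}
    (hE : IsComplIn E (sigmaCore M) M) {p : ℕ} (hp : p ∈ tau1 M) {P : Subgroup G} (hPE : P ≤ E)
    (hP : Nat.card P = p) {R : Subgroup G} (hRE : R ≤ E ⊓ centralizer (P : Set G))
    (hR : (Nat.card R).Prime) :
    sigmaCore M ⊓ centralizer (P : Set G) ≤ sigmaCore M ⊓ centralizer (R : Set G) := by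
  haveI hpf : Fact p.Prime := ⟨hp.1⟩
  haveI hrf : Fact (Nat.card R).Prime := ⟨hR⟩
  have hpM : p ∉ sigma M := hp.2.1
  have hp1 : PRankLE p 1 M := hp.2.2.2.2
  have hPM : P ≤ M := hPE.trans hE.1
  have hRE' : R ≤ E := hRE.trans inf_le_left
  have hRP : R ≤ centralizer (P : Set G) := hRE.trans inf_le_right
  have hRM : R ≤ M := hRE'.trans hE.1
  have hpp : p < p ^ 2 := by
    have := hpf.out.one_lt
    nlinarith
  have hrk : ∀ A : Subgroup G, A ≤ M → IsElementaryAbelian p A → Nat.card A ≠ p ^ 2 := by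
    intro A hAM hA hc
    refine not_pRankLE_of_le (k := 1) hAM hA ?_ hp1
    rw [hc, pow_one]; exact hpp
  -- it suffices that `R` centralizes `K = C_{M_σ}(P)`
  suffices hmain : R ≤ centralizer ((sigmaCore M ⊓ centralizer (P : Set G) : Subgroup G) : Set G) by
    intro x hx
    refine ⟨hx.1, ?_⟩
    show x ∈ centralizer (R : Set G)
    rw [Subgroup.mem_centralizer_iff]
    intro a ha
    have h1 := hmain ha
    rw [Subgroup.mem_centralizer_iff] at h1
    exact (h1 x hx).symm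
  by_cases hrp : Nat.card R = p
  · -- `R ≤ P` by rank one
    have hPe : IsElementaryAbelian p P := Cfsg.Agent.Helper34.BG.isElementaryAbelian_of_card_prime hP
    have hRe : IsElementaryAbelian p R := Cfsg.Agent.Helper34.BG.isElementaryAbelian_of_card_prime hrp
    have hsup : IsElementaryAbelian p (R ⊔ P) :=
      Cfsg.Agent.Helper75.S1423A2.elemAb_sup hRe hPe hRP
    have hsupM : R ⊔ P ≤ M := sup_le hRM hPM
    have hcard : Nat.card (R ⊔ P : Subgroup G) ≤ p := by
      by_contra hlt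
      push Not at hlt
      exact not_pRankLE_of_le (k := 1) hsupM hsup (by rw [pow_one]; exact hlt) hp1
    have hPeq : P = R ⊔ P := by
      apply Subgroup.eq_of_le_of_card_ge le_sup_right
      rw [hP]; exact hcard
    have hRleP : R ≤ P := by
      rw [hPeq]; exact le_sup_left
    intro a ha
    rw [Subgroup.mem_centralizer_iff]
    intro x hx
    have hx2 : x ∈ centralizer (P : Set G) := hx.2
    rw [Subgroup.mem_centralizer_iff] at hx2
    exact (hx2 a (hRleP ha)).symm
  -- `r ≠ p`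
  have hR1 : R ≠ ⊥ := ne_bot_of_card_prime (p := Nat.card R) rfl
  have hrE : Nat.card R ∣ Nat.card E := Subgroup.card_dvd_of_le hRE'
  have hrM : Nat.card R ∉ sigma M := not_mem_sigma_of_dvd_card_compl hG hM hE hR hrE
  have hrK : ¬ Nat.card R ∣ Nat.card (sigmaCore M) := not_dvd_card_sigmaCore hR hrM
  have hKle : sigmaCore M ⊓ centralizer (P : Set G) ≤ sigmaCore M := inf_le_left
  have hRnK : R ≤ normalizer ((sigmaCore M ⊓ centralizer (P : Set G) : Subgroup G) : Set G) := by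
    apply le_normalizer_of_conj_mem
    intro a ha k hk
    refine ⟨?_, ?_⟩
    · exact conj_mem_of_mem_normalizer (le_normalizer_sigmaCore M (hRM ha)) hk.1
    · have h1 : a ∈ centralizer (P : Set G) := hRP ha
      have h2 : k ∈ centralizer (P : Set G) := hk.2
      exact Subgroup.mul_mem _ (Subgroup.mul_mem _ h1 h2) (Subgroup.inv_mem _ h1)
  have hcop : (Nat.card R).Coprime
      (Nat.card (sigmaCore M ⊓ centralizer (P : Set G) : Subgroup G)) := by
    rw [Nat.Prime.coprime_iff_not_dvd hR]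
    intro hd
    exact hrK (hd.trans (Subgroup.card_dvd_of_le hKle))
  have hKM : sigmaCore M ⊓ centralizer (P : Set G) ≤ M := hKle.trans (sigmaCore_le M)
  refine le_centralizer_of_sylowwise hRnK hcop (Or.inr (solv_of_le_coatom hG hM hKM)) ?_
  intro q hqf Q hQK hQ hRQ
  by_contra hne
  -- the configuration
  have hQσ : Q ≤ sigmaCore M := hQK.trans inf_le_left
  have hQP : Q ≤ centralizer (P : Set G) := hQK.trans inf_le_right
  have hQM : Q ≤ M := hQσ.trans (sigmaCore_le M)
  have hTQ : ⁅Q, R⁆ ≤ Q := by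
    rw [Subgroup.commutator_le]
    intro x hx s hs
    rw [commutatorElement_def]
    have e : x * s * x⁻¹ * s⁻¹ = x * (s * x⁻¹ * s⁻¹) := by group
    rw [e]
    exact Q.mul_mem hx (conj_mem_of_mem_normalizer (hRQ hs) (Q.inv_mem hx))
  have hT1 : (⁅Q, R⁆ : Subgroup G) ≠ ⊥ := by
    intro h
    apply hne
    rw [Subgroup.commutator_eq_bot_iff_le_centralizer] at h
    exact Subgroup.le_centralizer_iff.mp h
  have hQ1 : Q ≠ ⊥ := by
    intro h
    apply hT1
    rw [eq_bot_iff]
    exact hTQ.trans (le_of_eq h)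
  have hqM : q ∈ sigma M := isPi_sigmaCore M q hqf.out (dvd_card_of_le hQ hQ1 hQσ)
  have hqp : q ≠ p := fun h => hpM (h ▸ hqM)
  have hqr : q ≠ Nat.card R := fun h => hrM (h ▸ hqM)
  have hcopQ : (Nat.card R).Coprime (Nat.card Q) := by
    rw [Nat.Prime.coprime_iff_not_dvd hR]
    exact not_dvd_card_of_isPGroup_ne (p := Nat.card R) (q := q) (fun h => hqr h.symm) hQ
  have hTT : ⁅⁅Q, R⁆, R⁆ = ⁅Q, R⁆ :=
    Cfsg.Agent.Helper24.commutator_commutator_eq Q R hRQ hcopQ (solv_of_le_coatom hG hM hQM)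
  have hRT : R ≤ normalizer ((⁅Q, R⁆ : Subgroup G) : Set G) := by
    intro a ha
    apply Cfsg.Agent.Helper52.mem_normalizer_of_map_conj_eq
    rw [Subgroup.map_commutator, Cfsg.Agent.Helper52.map_conj_eq_of_mem_normalizer (hRQ ha),
      Cfsg.Agent.Helper52.map_conj_eq_of_mem_normalizer (Subgroup.le_normalizer ha)]
  have hP1 : P ≠ ⊥ := ne_bot_of_card_prime hP
  obtain ⟨H, hH, hNH⟩ := exists_coatom_ge (normalizer_ne_top_of_le_coatom hG hM hPM hP1)
  have hnc := not_conj_of_rank_one hG hM hpM hrk hP hNH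
  have hHM : H ≠ M := by
    intro h
    apply hnc 1
    rw [map_conj_one]; exact h
  have hCH : centralizer (P : Set G) ≤ H := (Subgroup.centralizer_le_normalizer _).trans hNH
  have hPH : P ≤ H := Subgroup.le_normalizer.trans hNH
  have hRH : R ≤ H := hRP.trans hCH
  have hQH : Q ≤ H := hQP.trans hCH
  have hTH' : ⁅Q, R⁆ ≤ ⁅H, H⁆ := Subgroup.commutator_mono hQH hRH
  have hTP : ⁅Q, R⁆ ≤ centralizer (P : Set G) := hTQ.trans hQP
  have C : Ctx M H E p q (Nat.card R) P R ⁅Q, R⁆ :=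
    { hM := hM, hH := hH, hE := hE, hpM := hp, hqM := hqM, hrM := hrM, hrp := hrp, hqp := hqp,
      hqr := hqr, hrk := hrk, hPE := hPE, hPM := hPM, hPH := hPH, hP := hP, hNP := hNH,
      hRE := hRE', hRM := hRM, hRH := hRH, hR := rfl, hRP := hRP, hT := hQ.to_le hTQ,
      hT1 := hT1, hTσ := hTQ.trans hQσ, hTM := hTQ.trans hQM, hTH := hTQ.trans hQH,
      hTH' := hTH', hTP := hTP, hPT := Subgroup.le_centralizer_iff.mp hTP, hRT := hRT,
      hTR := hTT, hnc := hnc, hHM := hHM }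
  exact core28 hG C

end Cfsg.Agent.Helper15.BGW
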